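import Cfsg.Agent.S3210
import Cfsg.Agent.Lib.ZStar.Elements

/-!
# Two commuting copies of `SL(2, q)` swapped by an element of square `j`

The involution `j` is then isolated, so the Z*-theorem gives `G = C(j) O(G)`.  Written by helper7.
-/

set_option autoImplicit false

namespace Cfsg.Agent.Lib.ZStar.CommutingSL2

open Cfsg
open Cfsg.Agent.Lib
open Cfsg.Agent.Lib.SL2 Cfsg.Agent.Lib.SL2Central

universe u v

variable {F : Type v} [Field F]

theorem sq_eq_neg_one_of_anticomm (h2 : (2 : F) ≠ 0) {p w : SLtwo F}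
    (h : p * w = -(w * p)) : p * p = -1 := by
  have hne : p * w ≠ w * p := fun he => by
    rw [h] at he
    exact neg_one_ne_one h2 (mul_right_cancel (b := w * p) (by rw [neg_one_mul, one_mul, he]))
  have hcw : (p * p) * w = w * (p * p) := by
    rw [mul_assoc, h, mul_neg, ← mul_assoc, h, neg_mul, neg_neg, mul_assoc]
  have hz : p * p ∈ Subgroup.center (SLtwo F) := by
    by_contra hn
    exact hne (commute_of_commute_noncentral hn (mul_assoc _ _ _) hcw)
  rcases (mem_center_iff_eq _).1 hz with h1 | h1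
  · exfalso
    rcases eq_or_ne p 1 with rfl | hp
    · exact hne (by rw [one_mul, mul_one])
    · rw [eq_neg_one_of_mul_self_eq_one h2 h1 hp] at hne
      exact hne (by rw [neg_one_mul, mul_neg, mul_one])
  · exact h1

theorem exists_anticomm_weyl [Fintype F] (h2 : (2 : F) ≠ 0) :
    ∃ p : SLtwo F, p * weyl = -(weyl * p) := by
  obtain ⟨c, hc⟩ := isConj_iff.1 (isConj_weyl_of_sq h2 (g := -(weyl : SLtwo F))
    (by rw [neg_mul_neg, weyl_mul_weyl]))
  refine ⟨c, ?_⟩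
  rw [mul_inv_eq_iff_eq_mul, mul_neg] at hc
  rw [← hc, neg_neg]

variable {G : Type u} [Group G]

/-- The data used in the proof: the map `f` has image `L₁`, conjugation by `n` moves it to `L₂`. -/
structure Setup (f : SLtwo F →* G) (j n : G) (C : Subgroup G) : Prop where
  two : (2 : F) ≠ 0
  hf : f (-1) = j
  sq : n * n = j
  hj : j ≠ 1
  mem_iff : ∀ x, x ∈ C ↔ x * j = j * x
  nC : n ∈ C
  fC : ∀ p, f p ∈ C
  comm : ∀ p q, f p * (n * f q * n⁻¹) = n * f q * n⁻¹ * f p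
  inter : ∀ a b, f a = n * f b * n⁻¹ → (a = 1 ∧ b = 1) ∨ (a = -1 ∧ b = -1)
  decomp : ∀ x ∈ C, ∃ p q,
    x = f p * (n * f q * n⁻¹) ∨ x = f p * (n * f q * n⁻¹) * n

variable {f : SLtwo F →* G} {j n : G} {C : Subgroup G}

namespace Setup

/-- An element of `L₁ L₂`. -/
abbrev el (f : SLtwo F →* G) (n : G) (p q : SLtwo F) : G := f p * (n * f q * n⁻¹)

variable (S : Setup f j n C)
include S

theorem jj : j * j = 1 := by
  rw [← S.hf, ← map_mul, neg_mul_neg, one_mul, map_one]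

theorem el_mem (p q : SLtwo F) : el f n p q ∈ C :=
  mul_mem (S.fC p) (mul_mem (mul_mem S.nC (S.fC q)) (inv_mem S.nC))

theorem el_mul (p q p' q' : SLtwo F) :
    el f n p q * el f n p' q' = el f n (p * p') (q * q') := by
  simp only [el, map_mul]
  calc f p * (n * f q * n⁻¹) * (f p' * (n * f q' * n⁻¹))
      = f p * ((n * f q * n⁻¹) * f p') * (n * f q' * n⁻¹) := by group
    _ = f p * (f p' * (n * f q * n⁻¹)) * (n * f q' * n⁻¹) := by rw [S.comm]
    _ = f p * f p' * (n * (f q * f q') * n⁻¹) := by group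

theorem el_inj {p q p' q' : SLtwo F} (h : el f n p q = el f n p' q') :
    (p = p' ∧ q = q') ∨ (p = -p' ∧ q = -q') := by
  have h' : f (p'⁻¹ * p) = n * f (q' * q⁻¹) * n⁻¹ := by
    calc f (p'⁻¹ * p) = (f p')⁻¹ * el f n p q * (n * f q * n⁻¹)⁻¹ := by
          simp only [el, map_mul, map_inv]; group
      _ = (f p')⁻¹ * el f n p' q' * (n * f q * n⁻¹)⁻¹ := by rw [h]
      _ = n * f (q' * q⁻¹) * n⁻¹ := by
          simp only [el, map_mul, map_inv]; group
  rcases S.inter _ _ h' with ⟨h1, h2⟩ | ⟨h1, h2⟩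
  · exact Or.inl ⟨(inv_mul_eq_one.1 h1).symm, (mul_inv_eq_one.1 h2).symm⟩
  · refine Or.inr ⟨?_, ?_⟩
    · rw [inv_mul_eq_iff_eq_mul, mul_neg, mul_one] at h1
      exact h1
    · rw [mul_inv_eq_iff_eq_mul, neg_one_mul] at h2
      rw [h2, neg_neg]

theorem el_neg (p q : SLtwo F) : el f n (-p) (-q) = el f n p q := by
  have hn : n * j * n⁻¹ = j := by rw [← S.sq]; group
  rw [← neg_one_mul p, ← neg_one_mul q, ← S.el_mul]
  suffices h : el f n (-1 : SLtwo F) (-1) = 1 by rw [h, one_mul]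
  simp only [el, S.hf, hn, S.jj]

theorem conj_el (p q : SLtwo F) : n * el f n p q * n⁻¹ = el f n q p := by
  have hjq := (S.mem_iff _).1 (S.fC q)
  calc n * (f p * (n * f q * n⁻¹)) * n⁻¹
      = (n * f p * n⁻¹) * ((n * n) * f q * (n * n)⁻¹) := by group
    _ = (n * f p * n⁻¹) * f q := by rw [S.sq, ← hjq, mul_inv_cancel_right]
    _ = el f n q p := (S.comm q p).symm

theorem sq_outer (p q : SLtwo F) :
    el f n p q * n * (el f n p q * n) = el f n (-(p * q)) (q * p) := by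
  have h1 : el f n p q * n * (el f n p q * n)
      = el f n p q * (n * el f n p q * n⁻¹) * (n * n) := by group
  have hj' : j = el f n (-1 : SLtwo F) 1 := by simp [el, S.hf]
  rw [h1, S.conj_el, S.el_mul, S.sq, hj', S.el_mul, mul_neg, mul_one, mul_one]

theorem one_eq_el : (1 : G) = el f n 1 1 := by simp [el]

/-- Every element of square one in `C` lies in `L₁ L₂`. -/
theorem mem_of_sq_one {x : G} (hx : x ∈ C) (hx2 : x * x = 1) :
    ∃ p q, x = el f n p q := by
  obtain ⟨p, q, h | h⟩ := S.decomp x hx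
  · exact ⟨p, q, h⟩
  exfalso
  rw [h, S.sq_outer, S.one_eq_el] at hx2
  rcases S.el_inj hx2 with ⟨h1, h2⟩ | ⟨h1, h2⟩
  · have h3 : p * q = 1 := by
      rw [← inv_eq_of_mul_eq_one_right h2, inv_mul_cancel]
    rw [h3] at h1
    exact neg_one_ne_one S.two h1
  · have h3 : q * p = 1 := by
      have h4 : p * q = 1 := neg_injective h1
      rw [← inv_eq_of_mul_eq_one_right h4, inv_mul_cancel]
    rw [h3] at h2
    exact neg_one_ne_one S.two h2.symm

/-- The reference involution. -/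
abbrev t₀ (f : SLtwo F →* G) (n : G) : G := el f n weyl weyl

theorem conj_eq_t₀ [Fintype F] {t : G} (ht : t ∈ C) (ht2 : t * t = 1) (h1 : t ≠ 1) (hj : t ≠ j) :
    ∃ c ∈ C, c * t * c⁻¹ = t₀ f n := by
  obtain ⟨p, q, rfl⟩ := S.mem_of_sq_one ht ht2
  rw [S.el_mul, S.one_eq_el] at ht2
  rcases S.el_inj ht2 with ⟨hp, hq⟩ | ⟨hp, hq⟩
  · exfalso
    have hn : n * j * n⁻¹ = j := by rw [← S.sq]; group
    rcases eq_or_ne p 1 with rfl | hp' <;> rcases eq_or_ne q 1 with rfl | hq'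
    · exact h1 S.one_eq_el.symm
    · rw [eq_neg_one_of_mul_self_eq_one S.two hq hq'] at hj
      exact hj (by simp [el, S.hf, hn])
    · rw [eq_neg_one_of_mul_self_eq_one S.two hp hp'] at hj
      exact hj (by simp [el, S.hf])
    · rw [eq_neg_one_of_mul_self_eq_one S.two hq hq', eq_neg_one_of_mul_self_eq_one S.two hp hp',
        S.el_neg] at h1
      exact h1 S.one_eq_el.symm
  · obtain ⟨a, ha⟩ := isConj_iff.1 (isConj_weyl_of_sq S.two hp)
    obtain ⟨b, hb⟩ := isConj_iff.1 (isConj_weyl_of_sq S.two hq)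
    refine ⟨el f n a b, S.el_mem a b, ?_⟩
    rw [mul_inv_eq_iff_eq_mul, S.el_mul, S.el_mul, mul_inv_eq_iff_eq_mul.1 ha,
      mul_inv_eq_iff_eq_mul.1 hb]

theorem t₀_ne [Fintype F] : t₀ f n ≠ j := by
  intro h
  have h' : el f n weyl weyl = el f n (-1) 1 := h.trans (by simp [el, S.hf])
  rcases S.el_inj h' with ⟨-, h2⟩ | ⟨-, h2⟩
  · exact S3210.weyl_notMem (h2 ▸ Subgroup.one_mem _)
  · exact S3210.weyl_notMem (h2 ▸ neg_one_mem_center)

theorem n_notMem [Fintype F] : ¬ ∃ p q, n = el f n p q := by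
  rintro ⟨p, q, h⟩
  have h' : f (p * weyl * p⁻¹) = n * f weyl * n⁻¹ := by
    have h3 : el f n p q * f weyl * (el f n p q)⁻¹ = f (p * weyl * p⁻¹) := by
      simp only [el, map_mul, map_inv]
      rw [mul_inv_rev, mul_assoc (f p) (n * f q * n⁻¹), ← S.comm weyl q]
      group
    rw [← h3, ← h]
  rcases S.inter _ _ h' with ⟨-, h2⟩ | ⟨-, h2⟩
  · exact S3210.weyl_notMem (h2 ▸ Subgroup.one_mem _)
  · exact S3210.weyl_notMem (h2 ▸ neg_one_mem_center)

/-- The two kinds of elements of `L₁ L₂` centralizing `t₀`. -/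
theorem kind {p q : SLtwo F} (h : el f n p q * t₀ f n = t₀ f n * el f n p q) :
    (p * weyl = weyl * p ∧ q * weyl = weyl * q) ∨
      (p * weyl = -(weyl * p) ∧ q * weyl = -(weyl * q)) := by
  rw [S.el_mul, S.el_mul] at h
  exact S.el_inj h

/-- An element with `x * x ≠ 1` is of commuting kind. -/
theorem commKind {p q : SLtwo F} (h : el f n p q * t₀ f n = t₀ f n * el f n p q)
    (hx : el f n p q * el f n p q ≠ 1) : p * weyl = weyl * p ∧ q * weyl = weyl * q := by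
  rcases S.kind h with h' | ⟨hp, hq⟩
  · exact h'
  · exfalso
    rw [S.el_mul, sq_eq_neg_one_of_anticomm S.two hp, sq_eq_neg_one_of_anticomm S.two hq,
      S.el_neg] at hx
    exact hx S.one_eq_el.symm

/-- The isolation of `j`. -/
theorem isolated [Fintype F] (g : G) (hcom : Commute j (g * j * g⁻¹)) : g * j * g⁻¹ = j := by
  by_contra hne
  have hj2 : j * j = 1 := S.jj
  have hw : (weyl : SLtwo F) ∉ Subgroup.center (SLtwo F) := S3210.weyl_notMem
  -- an element swapping `j` and `t₀`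
  have hg2 : g * j * g⁻¹ * (g * j * g⁻¹) = 1 := by
    calc _ = g * (j * j) * g⁻¹ := by group
      _ = 1 := by rw [hj2]; group
  have hg1 : g * j * g⁻¹ ≠ 1 := fun h => S.hj (by simpa using h)
  obtain ⟨c, hc, hct⟩ := S.conj_eq_t₀ ((S.mem_iff _).2 hcom.eq.symm) hg2 hg1 hne
  have hcj : c * j * c⁻¹ = j := by rw [(S.mem_iff c).1 hc, mul_inv_cancel_right]
  set σ₁ := c * g with hσ₁
  have hσj : σ₁ * j * σ₁⁻¹ = t₀ f n := by rw [← hct, hσ₁]; group
  set s := σ₁⁻¹ * j * σ₁ with hs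
  have ht₀C : t₀ f n * j = j * t₀ f n := (S.mem_iff _).1 (S.el_mem _ _)
  have hsC : s ∈ C := by
    rw [S.mem_iff]
    calc s * j = σ₁⁻¹ * (j * (σ₁ * j * σ₁⁻¹)) * σ₁ := by rw [hs]; group
      _ = σ₁⁻¹ * ((σ₁ * j * σ₁⁻¹) * j) * σ₁ := by rw [hσj, ht₀C]
      _ = j * s := by rw [hs]; group
  have hs2 : s * s = 1 := by
    calc s * s = σ₁⁻¹ * (j * j) * σ₁ := by rw [hs]; group
      _ = 1 := by rw [hj2]; group
  have hs1 : s ≠ 1 := fun h => S.hj (by
    calc j = σ₁ * s * σ₁⁻¹ := by rw [hs]; group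
      _ = 1 := by rw [h]; group)
  have hsj : s ≠ j := fun h => S.t₀_ne (by
    calc t₀ f n = σ₁ * s * σ₁⁻¹ := by rw [h, hσj]
      _ = j := by rw [hs]; group)
  obtain ⟨d, hd, hds⟩ := S.conj_eq_t₀ hsC hs2 hs1 hsj
  have hdj : d⁻¹ * j * d = j := by rw [mul_assoc, ← (S.mem_iff d).1 hd, inv_mul_cancel_left]
  set σ := σ₁ * d⁻¹ with hσ
  have e1 : σ * j * σ⁻¹ = t₀ f n := by
    calc σ * j * σ⁻¹ = σ₁ * (d⁻¹ * j * d) * σ₁⁻¹ := by rw [hσ]; group
      _ = t₀ f n := by rw [hdj, hσj]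
  have e2 : σ * t₀ f n * σ⁻¹ = j := by
    calc σ * t₀ f n * σ⁻¹ = σ₁ * s * σ₁⁻¹ := by rw [← hds, hσ]; group
      _ = j := by rw [hs]; group
  -- the intersection `M` of the two centralizers, and `M ∩ L₁ L₂`
  obtain ⟨p₀, hp₀⟩ := exists_anticomm_weyl S.two
  have hp₀2 := sq_eq_neg_one_of_anticomm S.two hp₀
  set u₀ := el f n p₀ p₀ with hu₀
  have hu₀2 : u₀ * u₀ = 1 := by rw [hu₀, S.el_mul, hp₀2, S.el_neg, ← S.one_eq_el]
  have hu₀t : u₀ * t₀ f n = t₀ f n * u₀ := by rw [hu₀, S.el_mul, S.el_mul, hp₀, S.el_neg]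
  have hu₀M : u₀ * j = j * u₀ := (S.mem_iff _).1 (S.el_mem _ _)
  -- conjugation by a swapping element preserves `M ∩ L₁ L₂`
  have key : ∀ τ : G, τ * j * τ⁻¹ = t₀ f n → τ * t₀ f n * τ⁻¹ = j → ∀ p q,
      el f n p q * t₀ f n = t₀ f n * el f n p q → ∃ p' q',
        τ * el f n p q * τ⁻¹ = el f n p' q' ∧
          el f n p' q' * t₀ f n = t₀ f n * el f n p' q' := by
    intro τ t1 t2
    have hM : ∀ x : G, x * j = j * x → x * t₀ f n = t₀ f n * x →
        τ * x * τ⁻¹ ∈ C ∧ τ * x * τ⁻¹ * t₀ f n = t₀ f n * (τ * x * τ⁻¹) := by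
      intro x xj xt
      constructor
      · rw [S.mem_iff, ← t2]
        calc τ * x * τ⁻¹ * (τ * t₀ f n * τ⁻¹) = τ * (x * t₀ f n) * τ⁻¹ := by group
          _ = τ * t₀ f n * τ⁻¹ * (τ * x * τ⁻¹) := by rw [xt]; group
      · rw [← t1]
        calc τ * x * τ⁻¹ * (τ * j * τ⁻¹) = τ * (x * j) * τ⁻¹ := by group
          _ = τ * j * τ⁻¹ * (τ * x * τ⁻¹) := by rw [xj]; group
    have hinv : ∀ x : G, x * j = j * x → x * t₀ f n = t₀ f n * x → x * x = 1 →
        ∃ p' q', τ * x * τ⁻¹ = el f n p' q' := by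
      intro x xj xt x2
      refine S.mem_of_sq_one (hM x xj xt).1 ?_
      calc τ * x * τ⁻¹ * (τ * x * τ⁻¹) = τ * (x * x) * τ⁻¹ := by group
        _ = 1 := by rw [x2]; group
    intro p q hpq
    have xj : el f n p q * j = j * el f n p q := (S.mem_iff _).1 (S.el_mem _ _)
    suffices h : ∃ p' q', τ * el f n p q * τ⁻¹ = el f n p' q' by
      obtain ⟨p', q', h⟩ := h
      exact ⟨p', q', h, h ▸ (hM _ xj hpq).2⟩
    by_cases hx : el f n p q * el f n p q = 1
    · exact hinv _ xj hpq hx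
    obtain ⟨hp, hq⟩ := S.commKind hpq hx
    have ha : el f n (p * p₀) (q * p₀) * el f n (p * p₀) (q * p₀) = 1 := by
      have e : ∀ r : SLtwo F, r * weyl = weyl * r → r * p₀ * (r * p₀) = -1 := fun r hr => by
        refine sq_eq_neg_one_of_anticomm S.two (w := weyl) ?_
        rw [mul_assoc, hp₀, mul_neg, ← mul_assoc, hr, mul_assoc]
      rw [S.el_mul, e p hp, e q hq, S.el_neg, ← S.one_eq_el]
    have ha' : el f n p q = el f n (p * p₀) (q * p₀) * u₀ := by
      rw [← S.el_mul, mul_assoc, ← hu₀, hu₀2, mul_one]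
    have hat : el f n (p * p₀) (q * p₀) * t₀ f n = t₀ f n * el f n (p * p₀) (q * p₀) := by
      rw [← S.el_mul, ← hu₀, mul_assoc, hu₀t, ← mul_assoc, hpq, mul_assoc]
    obtain ⟨a, b, hab⟩ := hinv _ ((S.mem_iff _).1 (S.el_mem _ _)) hat ha
    obtain ⟨a', b', hab'⟩ := hinv _ hu₀M hu₀t hu₀2
    refine ⟨a * a', b * b', ?_⟩
    rw [← S.el_mul, ← hab, ← hab', ha']
    group
  have e1' : σ⁻¹ * j * σ⁻¹⁻¹ = t₀ f n := by rw [← e2]; group
  have e2' : σ⁻¹ * t₀ f n * σ⁻¹⁻¹ = j := by rw [← e1]; group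
  -- the two outer square roots of `j`
  have hnt : n * t₀ f n * n⁻¹ = t₀ f n := S.conj_el _ _
  have hnt' : n * t₀ f n = t₀ f n * n := mul_inv_eq_iff_eq_mul.1 hnt
  have outer : ∀ a b, el f n a b * t₀ f n = t₀ f n * el f n a b →
      el f n a b * n * (el f n a b * n) = j → ∀ x, x = σ * (el f n a b * n) * σ⁻¹ →
      ∃ p q, x = el f n p q * n ∧ p * weyl = -(weyl * p) ∧ q * weyl = -(weyl * q) := by
    intro a b hab hy x hx
    set y := el f n a b * n with hy'
    have hyC : y ∈ C := mul_mem (S.el_mem _ _) S.nC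
    have hyt : y * t₀ f n = t₀ f n * y := by
      rw [hy', mul_assoc, hnt', ← mul_assoc, hab, mul_assoc]
    have hxC : x ∈ C := by
      rw [S.mem_iff, hx, ← e2]
      calc σ * y * σ⁻¹ * (σ * t₀ f n * σ⁻¹) = σ * (y * t₀ f n) * σ⁻¹ := by group
        _ = σ * t₀ f n * σ⁻¹ * (σ * y * σ⁻¹) := by rw [hyt]; group
    have hxt : x * t₀ f n = t₀ f n * x := by
      rw [hx, ← e1]
      calc σ * y * σ⁻¹ * (σ * j * σ⁻¹) = σ * (y * j) * σ⁻¹ := by group
        _ = σ * j * σ⁻¹ * (σ * y * σ⁻¹) := by rw [(S.mem_iff y).1 hyC]; group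
    have hx2 : x * x = t₀ f n := by
      rw [hx, ← e1, ← hy]; group
    obtain ⟨p, q, h | h⟩ := S.decomp x hxC
    · exfalso
      obtain ⟨p', q', h', -⟩ := key σ⁻¹ e1' e2' p q
        (by rwa [show el f n p q = x from h.symm])
      have h'' : y = el f n p' q' := by
        rw [← h']; show y = σ⁻¹ * (f p * (n * f q * n⁻¹)) * σ⁻¹⁻¹
        rw [← h, hx]; group
      refine S.n_notMem ⟨a⁻¹ * p', b⁻¹ * q', ?_⟩
      rw [← mul_left_cancel_iff (a := el f n a b), S.el_mul, mul_inv_cancel_left,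
        mul_inv_cancel_left, ← h'', hy']
    · refine ⟨p, q, h, ?_⟩
      have hpq : el f n p q * t₀ f n = t₀ f n * el f n p q := by
        apply mul_right_cancel (b := n)
        rw [mul_assoc, ← hnt', ← mul_assoc, mul_assoc (t₀ f n) _ n]
        exact h ▸ hxt
      rcases S.kind hpq with ⟨hp, hq⟩ | h'
      · exfalso
        rw [h, S.sq_outer] at hx2
        have hpq' : p * q = q * p := commute_of_commute_noncentral hw hp.symm hq.symm
        rcases S.el_inj hx2 with ⟨h1, h2⟩ | ⟨h1, h2⟩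
        · rw [hpq', h2] at h1
          exact neg_one_ne_one S.two (mul_right_cancel (b := (weyl : SLtwo F))
            (by rw [neg_one_mul, one_mul, h1]))
        · rw [hpq', h2, neg_neg] at h1
          exact neg_one_ne_one S.two (mul_right_cancel (b := (weyl : SLtwo F))
            (by rw [neg_one_mul, one_mul, ← h1]))
      · exact h'
  have hnj : n * j * n⁻¹ = j := by rw [← S.sq]; group
  obtain ⟨p₁, q₁, hx₁, hp₁, hq₁⟩ := outer 1 1 (by rw [← S.one_eq_el, one_mul, mul_one])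
    (by rw [← S.one_eq_el, one_mul, S.sq]) _ rfl
  obtain ⟨p₂, q₂, hx₂, hp₂, hq₂⟩ := outer p₀ p₀ hu₀t
    (by rw [S.sq_outer, hp₀2, neg_neg]; simp [el, S.hf, hnj]) _ rfl
  rw [← S.one_eq_el, one_mul] at hx₁
  -- the image of `u₀` commutes with the image of `f weyl`, but `u₀` does not
  have hu : σ * u₀ * σ⁻¹ = el f n (p₂ * p₁⁻¹) (q₂ * q₁⁻¹) := by
    have h1 : σ * u₀ * σ⁻¹ * (el f n p₁ q₁ * n) = el f n p₂ q₂ * n := by
      rw [← hx₁, ← hx₂, hu₀]; group
    rw [← mul_assoc, mul_left_inj, ← eq_mul_inv_iff_mul_eq] at h1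
    rw [h1, mul_inv_eq_iff_eq_mul, S.el_mul, inv_mul_cancel_right, inv_mul_cancel_right]
  have hcm : ∀ r r' : SLtwo F, r * weyl = -(weyl * r) → r' * weyl = -(weyl * r') →
      r * r'⁻¹ * weyl = weyl * (r * r'⁻¹) := fun r r' hr hr' => by
    have h1 : r'⁻¹ * weyl = -(weyl * r'⁻¹) := by
      rw [inv_mul_eq_iff_eq_mul, mul_neg, ← mul_assoc, hr', neg_mul, neg_neg,
        mul_inv_cancel_right]
    rw [mul_assoc, h1, mul_neg, ← mul_assoc, hr, neg_mul, neg_neg, mul_assoc]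
  have hwt : el f n weyl 1 * t₀ f n = t₀ f n * el f n weyl 1 := by
    rw [S.el_mul, S.el_mul, one_mul, mul_one]
  obtain ⟨a, b, hab, habt⟩ := key σ e1 e2 weyl 1 hwt
  have hsqne : el f n a b * el f n a b ≠ 1 := by
    rw [← hab]
    intro h
    have h' : el f n weyl 1 * el f n weyl 1 = 1 := by
      calc el f n weyl 1 * el f n weyl 1
          = σ⁻¹ * (σ * el f n weyl 1 * σ⁻¹ * (σ * el f n weyl 1 * σ⁻¹)) * σ := by group
        _ = 1 := by rw [h]; group
    rw [S.el_mul, weyl_mul_weyl, mul_one] at h'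
    exact S.hj (by simpa [el, S.hf] using h')
  obtain ⟨ha, hb⟩ := S.commKind habt hsqne
  have hcomm : σ * u₀ * σ⁻¹ * (σ * el f n weyl 1 * σ⁻¹) =
      σ * el f n weyl 1 * σ⁻¹ * (σ * u₀ * σ⁻¹) := by
    rw [hu, hab, S.el_mul, S.el_mul,
      commute_of_commute_noncentral hw (hcm _ _ hp₂ hp₁).symm ha.symm,
      commute_of_commute_noncentral hw (hcm _ _ hq₂ hq₁).symm hb.symm]
  have h0 : u₀ * el f n weyl 1 = el f n weyl 1 * u₀ := by
    calc u₀ * el f n weyl 1
        = σ⁻¹ * (σ * u₀ * σ⁻¹ * (σ * el f n weyl 1 * σ⁻¹)) * σ := by group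
      _ = el f n weyl 1 * u₀ := by rw [hcomm]; group
  rw [hu₀, S.el_mul, S.el_mul, hp₀, mul_one, one_mul] at h0
  rcases S.el_inj h0 with ⟨h1, -⟩ | ⟨-, h2⟩
  · exact neg_one_ne_one S.two (mul_right_cancel (b := weyl * p₀)
      (by rw [neg_one_mul, one_mul, h1]))
  · exact neg_one_ne_one S.two (mul_right_cancel (b := p₀)
      (by rw [neg_one_mul, one_mul, ← h2]))

end Setup

/-- The main statement. -/
theorem centralizer_sup_oddCore (hZ : ZStarStatement.{u}) [Finite G]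
    {F₁ : Type*} [Field F₁] [Fintype F₁] (hF₁ : Odd (Fintype.card F₁)) (L₁ L₂ : Subgroup G)
    (e₁ : ↥L₁ ≃* SLtwo F₁) (hc : ∀ x ∈ L₁, ∀ y ∈ L₂, x * y = y * x) (j : G)
    (hj : orderOf j = 2) (hm : L₁ ⊓ L₂ = Subgroup.zpowers j)
    (hle : L₁ ⊔ L₂ ≤ Subgroup.centralizer ({j} : Set G))
    (hi : (L₁ ⊔ L₂).relIndex (Subgroup.centralizer ({j} : Set G)) = 2) (n : G)
    (hn : n ∈ Subgroup.centralizer ({j} : Set G)) (hn2 : n ^ 2 = j)
    (hswap : L₁.map (MulAut.conj n).toMonoidHom = L₂) :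
    Subgroup.centralizer ({j} : Set G) ⊔ oddCore G = ⊤ := by
  obtain ⟨f, hfi, hfr, hfj, h2, -⟩ := S3210.hom_data hF₁ L₁ L₂ e₁ hj hm
  set C := Subgroup.centralizer ({j} : Set G) with hCdef
  have hfL : ∀ p, f p ∈ L₁ := fun p => hfr ▸ ⟨p, rfl⟩
  have hnL : ∀ q, n * f q * n⁻¹ ∈ L₂ := fun q => hswap ▸ ⟨f q, hfL q, rfl⟩
  have hne : j ≠ 1 := fun h => by rw [h, orderOf_one] at hj; omega
  have hnj : n * j * n⁻¹ = j := by rw [← hn2]; group
  have hdec : ∀ y ∈ L₁ ⊔ L₂, ∃ p q, y = f p * (n * f q * n⁻¹) := by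
    intro y hy
    obtain ⟨a, ha, b, hb, rfl⟩ := S3210.mem_sup_exists hc hy
    obtain ⟨p, rfl⟩ : a ∈ f.range := hfr.symm ▸ ha
    rw [← hswap] at hb
    obtain ⟨c, hcL, rfl⟩ := hb
    obtain ⟨q, rfl⟩ : c ∈ f.range := hfr.symm ▸ hcL
    exact ⟨p, q, rfl⟩
  have hfW : (weyl : SLtwo F₁) ≠ 1 ∧ (weyl : SLtwo F₁) ≠ -1 :=
    ⟨fun e => S3210.weyl_notMem (e ▸ Subgroup.one_mem _),
      fun e => S3210.weyl_notMem (e ▸ neg_one_mem_center)⟩
  have hnY : n ∉ L₁ ⊔ L₂ := by
    intro h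
    obtain ⟨p, q, hpq⟩ := hdec n h
    have h' : n * f weyl * n⁻¹ = f (p * weyl * p⁻¹) := by
      rw [map_mul, map_mul, map_inv]
      conv_lhs => rw [hpq]
      rw [mul_inv_rev, mul_assoc (f p) (n * f q * n⁻¹), ← hc _ (hfL weyl) _ (hnL q)]
      group
    have hmem : n * f weyl * n⁻¹ ∈ L₁ ⊓ L₂ := ⟨h' ▸ hfL _, hnL _⟩
    rw [hm, mem_zpowers_iff_of_two hj] at hmem
    rcases hmem with h1 | h1
    · exact hfW.1 (hfi (by rw [map_one]; simpa using h1))
    · refine hfW.2 (hfi ?_)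
      rw [hfj]
      exact mul_left_cancel (mul_right_cancel (h1.trans hnj.symm))
  have hS : Setup f j n C :=
    { two := h2
      hf := hfj
      sq := by rw [← pow_two, hn2]
      hj := hne
      mem_iff := fun x => Subgroup.mem_centralizer_singleton_iff
      nC := hn
      fC := fun p => hle (le_sup_left (b := L₂) (hfL p))
      comm := fun p q => hc _ (hfL p) _ (hnL q)
      inter := fun a b hab => by
        have hmem : f a ∈ L₁ ⊓ L₂ := ⟨hfL a, hab ▸ hnL b⟩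
        rw [hm, mem_zpowers_iff_of_two hj] at hmem
        rcases hmem with h1 | h1
        · refine Or.inl ⟨hfi (by rw [h1, map_one]), hfi ?_⟩
          rw [map_one]
          rw [h1] at hab
          simpa using hab.symm
        · refine Or.inr ⟨hfi (by rw [h1, hfj]), hfi ?_⟩
          rw [hfj]
          exact mul_left_cancel (mul_right_cancel ((hab.symm.trans h1).trans hnj.symm))
      decomp := fun x hx => by
        by_cases hxY : x ∈ L₁ ⊔ L₂
        · obtain ⟨p, q, h⟩ := hdec x hxY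
          exact ⟨p, q, Or.inl h⟩
        · have h3 := Subgroup.mul_mem_iff_of_index_two hi (a := ⟨x, hx⟩) (b := ⟨n, hn⟩⁻¹)
          simp only [Subgroup.mem_subgroupOf, Subgroup.coe_mul, Subgroup.coe_inv, inv_mem_iff,
            hxY, hnY, iff_self, iff_true] at h3
          obtain ⟨p, q, h⟩ := hdec _ h3
          exact ⟨p, q, Or.inr (by rw [← h, inv_mul_cancel_right])⟩ }
  have hiso : IsIsolatedInvolution j := ⟨hj, fun g hg => hS.isolated g hg⟩
  haveI : Fact (Nat.Prime 2) := ⟨Nat.prime_two⟩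
  refine (Subgroup.eq_top_iff' _).2 fun g => ?_
  have hjC : Subgroup.zpowers j ≤ C :=
    Subgroup.zpowers_le.2 (Subgroup.mem_centralizer_singleton_iff.2 rfl)
  have hj2 : j * j = 1 := mul_self_of_orderOf_two hj
  have hgjg : g * j * g⁻¹ ∈ Subgroup.zpowers j ⊔ oddCore G := by
    have h := hZ G j hiso g
    have h3 : g * j * g⁻¹ = j * (j * g * j⁻¹ * g⁻¹) := by
      rw [inv_eq_of_mul_eq_one_right hj2]
      calc g * j * g⁻¹ = 1 * g * j * g⁻¹ := by rw [one_mul]
        _ = _ := by rw [← hj2]; group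
    rw [h3]
    exact mul_mem (le_sup_left (b := oddCore G) (Subgroup.mem_zpowers j))
      (le_sup_right (a := Subgroup.zpowers j) h)
  have hP : IsPGroup 2 (Subgroup.zpowers j) :=
    IsPGroup.of_card (n := 1) (by rw [Nat.card_zpowers, hj, pow_one])
  obtain ⟨d, hd, hd'⟩ := exists_conj_le_of_le_sup (Q := Subgroup.zpowers j)
    (W := Subgroup.zpowers j ⊔ oddCore G) (R := Subgroup.zpowers (g * j * g⁻¹)) (O := oddCore G)
    (Nat.coprime_two_right.1 PSolvable.pPrimeCore_coprime) hP le_sup_left le_rfl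
    (IsPGroup.of_card (n := 1) (by
      rw [Nat.card_zpowers, pow_one]
      exact (Involution.isConj_orderOf (isConj_iff.2 ⟨g, rfl⟩)).trans hj))
    (Subgroup.zpowers_le.2 hgjg)
  have h1 := hd' _ (Subgroup.mem_zpowers _)
  rw [mem_zpowers_iff_of_two hj] at h1
  have hdg : d * g ∈ C := by
    rcases h1 with h1 | h1
    · exfalso
      apply hne
      calc j = (d * g)⁻¹ * (d * (g * j * g⁻¹) * d⁻¹) * (d * g) := by group
        _ = 1 := by rw [h1]; group
    · rw [Subgroup.mem_centralizer_singleton_iff]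
      calc d * g * j = d * (g * j * g⁻¹) * d⁻¹ * (d * g) := by group
        _ = j * (d * g) := by rw [h1]
  have hdW : d⁻¹ ∈ C ⊔ oddCore G := inv_mem (sup_le_sup_right hjC (oddCore G) hd)
  have := mul_mem hdW (Subgroup.mem_sup_left (T := oddCore G) hdg)
  rwa [inv_mul_cancel_left] at this
where
  mem_zpowers_iff_of_two {H : Type u} [Group H] [Finite H] {j x : H} (hj : orderOf j = 2) :
      x ∈ Subgroup.zpowers j ↔ x = 1 ∨ x = j := by
    classical
    constructor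
    · intro hx
      rw [(isOfFinOrder_of_finite j).mem_zpowers_iff_mem_range_orderOf, hj,
        show Finset.range 2 = {0, 1} from rfl] at hx
      simpa [eq_comm] using hx
    · rintro (rfl | rfl)
      · exact one_mem _
      · exact Subgroup.mem_zpowers _

end Cfsg.Agent.Lib.ZStar.CommutingSL2
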