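import Cfsg.Agent.Lib.ZStar.PClass

/-!
# Sylow subgroups normalised by an isolated involution

From the Z*-theorem: `G = C(z)·O(G)`, so `z` fixes a Sylow subgroup of `P·O(G)`.
Written by helper7.
-/

set_option autoImplicit false

namespace Cfsg.Agent.Lib.ZStar

open Cfsg
open Cfsg.Agent.Lib
open scoped Pointwise

universe u

variable {G : Type u} [Group G] [Finite G]

theorem exists_sylow_invariant (hZ : ZStarStatement.{u}) {z : G} (hz : IsIsolatedInvolution z)
    (p : ℕ) [hp : Fact p.Prime] :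
    ∃ P : Sylow p G, ∀ x ∈ (P : Subgroup G), z * x * z⁻¹ ∈ (P : Subgroup G) := by
  classical
  haveI : Fact (Nat.Prime 2) := ⟨Nat.prime_two⟩
  by_cases hp2 : p = 2
  · subst hp2
    have hP : IsPGroup 2 (Subgroup.zpowers z) :=
      IsPGroup.of_card (n := 1) (by rw [Nat.card_zpowers, hz.1, pow_one])
    obtain ⟨P, hP⟩ := hP.exists_le_sylow
    exact ⟨P, fun x hx => Subgroup.mul_mem _ (Subgroup.mul_mem _ (hP (Subgroup.mem_zpowers z)) hx)
      (Subgroup.inv_mem _ (hP (Subgroup.mem_zpowers z)))⟩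
  obtain ⟨P0⟩ : Nonempty (Sylow p G) := inferInstance
  set O := (P0 : Subgroup G) ⊔ oddCore G with hO
  have hOodd : Odd (Nat.card O) := by
    obtain ⟨k, hk⟩ := IsPGroup.iff_card.1 P0.2
    have h1 : Nat.card O ∣ Nat.card (oddCore G) * Nat.card (P0 : Subgroup G) := by
      rw [← PSolvable.card_mul_relIndex (le_sup_right : oddCore G ≤ O),
        Subgroup.relIndex_sup_right]
      exact mul_dvd_mul_left _ (Subgroup.relIndex_dvd_card _ _)
    refine Odd.of_dvd_nat (Odd.mul (Nat.coprime_two_right.1 PSolvable.pPrimeCore_coprime) ?_) h1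
    rw [hk]
    exact (hp.out.odd_of_ne_two hp2).pow
  set N := Subgroup.normalizer (O : Set G) with hN
  have hzN : z ∈ N := by
    have key : ∀ x ∈ O, z * x * z⁻¹ ∈ O := fun x hx => by
      have h1 := Subgroup.mul_mem O
        (Subgroup.mem_sup_right (S := (P0 : Subgroup G)) (hZ G z hz x)) hx
      rwa [inv_mul_cancel_right] at h1
    rw [Subgroup.mem_normalizer_iff]
    refine fun x => ⟨key x, fun hx => ?_⟩
    have h1 := key _ hx
    have hzz := Isolated.mul_self hz
    have e : z * (z * x * z⁻¹) * z⁻¹ = x := by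
      rw [inv_eq_of_mul_eq_one_right hzz]
      calc z * (z * x * z) * z = (z * z) * x * (z * z) := by group
        _ = x := by rw [hzz, one_mul, mul_one]
    rwa [e] at h1
  have hON : O ≤ N := Subgroup.le_normalizer
  let O' : Subgroup N := O.subgroupOf N
  have hO'n : O'.Normal := Subgroup.normal_subgroupOf_of_le_normalizer le_rfl
  have hO'odd : Odd (Nat.card O') := by
    rwa [Nat.card_congr (Subgroup.subgroupOfEquivOfLe hON).toEquiv]
  obtain ⟨Q, hQ⟩ := exists_sylow_fixed (G := N) hO'n hO'odd (d := ⟨z, hzN⟩)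
    (by rw [Subgroup.orderOf_mk]; exact hz.1) p
  set P := ((Q : Subgroup O').map O'.subtype).map N.subtype with hP
  have hcard : Nat.card P = p ^ (Nat.card G).factorization p := by
    rw [hP, Subgroup.card_map_of_injective N.subtype_injective,
      Subgroup.card_map_of_injective O'.subtype_injective, Q.card_eq_multiplicity,
      Nat.card_congr (Subgroup.subgroupOfEquivOfLe hON).toEquiv]
    congr 1
    refine le_antisymm ((Nat.factorization_le_iff_dvd Nat.card_pos.ne' Nat.card_pos.ne').2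
      (Subgroup.card_subgroup_dvd_card _) p) ?_
    have h1 : p ^ (Nat.card G).factorization p ∣ Nat.card O :=
      P0.card_eq_multiplicity ▸ Subgroup.card_dvd_of_le (le_sup_left : (P0 : Subgroup G) ≤ O)
    exact (hp.out.pow_dvd_iff_le_factorization Nat.card_pos.ne').1 h1
  refine ⟨Sylow.ofCard P hcard, ?_⟩
  rw [Sylow.coe_ofCard]
  rintro _ ⟨x, hx, rfl⟩
  exact ⟨_, hQ x hx, rfl⟩

theorem exists_sylow_eq_of_maximal (hZ : ZStarStatement.{u}) {z : G} (hz : IsIsolatedInvolution z)
    {p : ℕ} [hp : Fact p.Prime] (Q : Subgroup G) (hQ : IsPGroup p Q)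
    (hzQ : z ∈ Subgroup.normalizer (Q : Set G))
    (hmax : ∀ R : Subgroup G, IsPGroup p R → z ∈ Subgroup.normalizer (R : Set G) → Q ≤ R → R = Q) :
    ∃ P : Sylow p G, (P : Subgroup G) = Q := by
  classical
  set N := Subgroup.normalizer (Q : Set G) with hN
  obtain ⟨R, hR⟩ := exists_sylow_invariant (G := N) hZ (isIsolatedInvolution_subgroup hz N hzQ) p
  have hQn : (Q.subgroupOf N).Normal := Subgroup.normal_subgroupOf_of_le_normalizer le_rfl
  have hQle : Q.subgroupOf N ≤ (R : Subgroup N) := by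
    obtain ⟨T, hT⟩ := (hQ.comap_subtype (K := N)).exists_le_sylow
    obtain ⟨a, ha⟩ := MulAction.exists_smul_eq N T R
    intro x hx
    rw [← ha, Sylow.coe_subgroup_smul]
    refine ⟨a⁻¹ * x * a⁻¹⁻¹, hT (hQn.conj_mem x hx a⁻¹), ?_⟩
    show a * (a⁻¹ * x * a⁻¹⁻¹) * a⁻¹ = x
    group
  have hQR : Q ≤ (R : Subgroup N).map N.subtype := fun x hx =>
    ⟨⟨x, Subgroup.le_normalizer hx⟩, hQle hx, rfl⟩
  have hzR : z ∈ Subgroup.normalizer (((R : Subgroup N).map N.subtype : Subgroup G) : Set G) := by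
    rw [Subgroup.mem_normalizer_iff]
    have key : ∀ x ∈ (R : Subgroup N).map N.subtype,
        z * x * z⁻¹ ∈ (R : Subgroup N).map N.subtype := by
      rintro _ ⟨x, hx, rfl⟩; exact ⟨_, hR x hx, rfl⟩
    refine fun x => ⟨key x, fun hx => ?_⟩
    have h1 := key _ hx
    have hzz := Isolated.mul_self hz
    have e : z * (z * x * z⁻¹) * z⁻¹ = x := by
      rw [inv_eq_of_mul_eq_one_right hzz]
      calc z * (z * x * z) * z = (z * z) * x * (z * z) := by group
        _ = x := by rw [hzz, one_mul, mul_one]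
    rwa [e] at h1
  have hEq := hmax _ (R.2.map _) hzR hQR
  obtain ⟨P, hP⟩ := hQ.exists_le_sylow
  refine ⟨P, ?_⟩
  by_contra hne
  have hlt : Q.subgroupOf (P : Subgroup G) < ⊤ := by
    refine lt_top_iff_ne_top.2 fun e => hne (le_antisymm ?_ hP)
    exact fun x hx => show (⟨x, hx⟩ : (P : Subgroup G)) ∈ Q.subgroupOf (P : Subgroup G) from
      e ▸ Subgroup.mem_top _
  have : Group.IsNilpotent (P : Subgroup G) := P.isPGroup'.isNilpotent
  obtain ⟨r, hrN, hrQ⟩ := SetLike.exists_of_lt (Group.normalizerCondition_of_isNilpotent _ hlt)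
  have hrN' : (r : G) ∈ N := by
    rw [hN, Subgroup.mem_normalizer_iff]
    intro a
    rw [Subgroup.mem_normalizer_iff] at hrN
    constructor
    · intro ha
      exact (hrN ⟨a, hP ha⟩).1 ha
    · intro ha
      have haP : a ∈ (P : Subgroup G) := by
        have := mul_mem (mul_mem (inv_mem r.2) (hP ha)) r.2
        simpa [mul_assoc] using this
      exact (hrN ⟨a, haP⟩).2 ha
  -- the Sylow subgroup `R` of `N` is `Q` itself
  obtain ⟨T, hT⟩ := ((P.2.to_le (Subgroup.zpowers_le.2 r.2)).comap_subtype (K := N)).exists_le_sylow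
  obtain ⟨a, ha⟩ := MulAction.exists_smul_eq N R T
  have h1 : (⟨r, hrN'⟩ : N) ∈ (T : Subgroup N) := hT (Subgroup.mem_zpowers (r : G))
  rw [← ha, Sylow.coe_subgroup_smul] at h1
  obtain ⟨q, hq, hqe⟩ := h1
  have hqQ : (q : G) ∈ Q := hEq ▸ ⟨q, hq, rfl⟩
  have h2 : ((a * q * a⁻¹ : N) : G) = r := congrArg Subtype.val hqe
  apply hrQ
  show (r : G) ∈ Q
  rw [← h2]
  exact (Subgroup.mem_normalizer_iff.1 a.2 _).1 hqQ

end Cfsg.Agent.Lib.ZStar
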